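import Mathlib.AlgebraicTopology.SimplicialObject.Coskeletal
import Mathlib.AlgebraicTopology.SimplicialSet.CategoryWithFibrations
import Mathlib.AlgebraicTopology.SimplicialSet.Homotopy
import Mathlib.AlgebraicTopology.CechNerve
import Mathlib.CategoryTheory.Limits.Shapes.ConcreteCategory
import Mathlib.CategoryTheory.Limits.Types.Limits

universe u

open CategoryTheory Simplicial Opposite Limits MonoidalCategory

namespace Groth.Agent.SSet45

lemma cosk_existsUnique (U : SSet.{u}) (n : ℕ) [SimplicialObject.IsCoskeletal U n] {k : ℕ}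
    (a : ∀ j : SimplexCategory.Truncated n, (j.obj ⟶ ⦋k⦌) → U.obj (op j.obj))
    (ha : ∀ (i j : SimplexCategory.Truncated n) (g : i ⟶ j) (f : j.obj ⟶ ⦋k⦌),
      a i (g.hom ≫ f) = U.map g.hom.op (a j f)) :
    ∃! x : U.obj (op ⦋k⦌), ∀ (j : SimplexCategory.Truncated n) (f : j.obj ⟶ ⦋k⦌),
      U.map f.op x = a j f := by
  let L := (SimplexCategory.Truncated.inclusion n).op
  have h : IsLimit ((Functor.RightExtension.mk U (𝟙 (L ⋙ U))).coneAt (op ⦋k⦌)) :=
    Functor.isPointwiseRightKanExtensionOfIsRightKanExtension _ _ (op ⦋k⦌)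
  have hs : (fun e : StructuredArrow (op ⦋k⦌) L => a e.right.unop e.hom.unop) ∈
      (StructuredArrow.proj (op ⦋k⦌) L ⋙ (L ⋙ U)).sections := by
    intro e e' φ
    have hw : e'.hom.unop = φ.right.unop.hom ≫ e.hom.unop :=
      congr_arg Quiver.Hom.unop (StructuredArrow.w φ).symm
    show U.map _ (a e.right.unop e.hom.unop) = a e'.right.unop e'.hom.unop
    rw [hw, ha]
    rfl
  obtain ⟨x, hx, huniq⟩ := (Types.isLimit_iff _).1 ⟨h⟩ _ hs
  refine ⟨x, fun j f => ?_, fun y hy => huniq y fun e => ?_⟩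
  · exact hx (StructuredArrow.mk (Y := op j) f.op)
  · exact hy e.right.unop e.hom.unop

lemma cosk_ext {U : SSet.{u}} (n : ℕ) [SimplicialObject.IsCoskeletal U n] {k : ℕ}
    {x y : U.obj (op ⦋k⦌)}
    (h : ∀ j : ℕ, j ≤ n → ∀ g : ⦋j⦌ ⟶ ⦋k⦌, U.map g.op x = U.map g.op y) : x = y := by
  obtain ⟨z, -, hz⟩ := cosk_existsUnique U n (fun j g => U.map g.op x)
    (fun i j g f => by rw [op_comp, Functor.map_comp, comp_apply])
  rw [hz x fun j g => rfl, hz y]
  rintro ⟨⟨j⟩, hj⟩ g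
  exact (h j hj g).symm

lemma isCoskeletal_of_existsUnique (U : SSet.{u}) (n : ℕ)
    (h : ∀ (k : ℕ) (a : ∀ j : SimplexCategory.Truncated n, (j.obj ⟶ ⦋k⦌) → U.obj (op j.obj)),
      (∀ (i j : SimplexCategory.Truncated n) (g : i ⟶ j) (f : j.obj ⟶ ⦋k⦌),
        a i (g.hom ≫ f) = U.map g.hom.op (a j f)) →
      ∃! x : U.obj (op ⦋k⦌), ∀ (j : SimplexCategory.Truncated n) (f : j.obj ⟶ ⦋k⦌),
        U.map f.op x = a j f) :
    SimplicialObject.IsCoskeletal U n := by
  refine ⟨Functor.RightExtension.IsPointwiseRightKanExtension.isRightKanExtension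
    (E := Functor.RightExtension.mk U (𝟙 ((SimplexCategory.Truncated.inclusion n).op ⋙ U))) ?_⟩
  rintro ⟨⟨k⟩⟩
  refine ((Types.isLimit_iff _).2 fun s hs => ?_).some
  obtain ⟨x, hx, huniq⟩ := h k (fun j f => s (StructuredArrow.mk (Y := op j) f.op))
    (fun i j g f => (hs (StructuredArrow.homMk (f := StructuredArrow.mk (Y := op j) f.op)
      (f' := StructuredArrow.mk (Y := op i) (g.hom ≫ f).op) g.op rfl)).symm)
  refine ⟨x, fun e => ?_, fun y hy => huniq y fun j f => hy (StructuredArrow.mk (Y := op j) f.op)⟩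
  obtain ⟨⟨⟨⟩⟩, e, f⟩ := e
  exact hx e.unop f.unop

lemma stdSimplex_isCoskeletal_one (n : ℕ) :
    SimplicialObject.IsCoskeletal (SSet.stdSimplex.{u}.obj ⦋n⦌) 1 := by
  refine isCoskeletal_of_existsUnique _ _ fun k a ha => ?_
  let v : SimplexCategory.Truncated 1 := ⟨⦋0⦌, Nat.zero_le _⟩
  let e : SimplexCategory.Truncated 1 := ⟨⦋1⦌, le_rfl⟩
  let F : Fin (k + 1) → Fin (n + 1) := fun i => a v (SimplexCategory.const _ _ i) (0 : Fin 1)
  have key : ∀ (j : SimplexCategory.Truncated 1) (f : j.obj ⟶ ⦋k⦌) (l : Fin (j.obj.len + 1)),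
      (SSet.stdSimplex.objEquiv (a j f)).toOrderHom l = F (f.toOrderHom l) := by
    intro j f l
    have h := ha v j (ObjectProperty.homMk (SimplexCategory.const ⦋0⦌ j.obj l)) f
    rw [show (ObjectProperty.homMk (SimplexCategory.const ⦋0⦌ j.obj l) : v ⟶ j).hom ≫ f =
      SimplexCategory.const ⦋0⦌ ⦋k⦌ (f.toOrderHom l) from by ext i; rfl] at h
    show _ = (a v (SimplexCategory.const ⦋0⦌ ⦋k⦌ (f.toOrderHom l))) (0 : Fin 1)
    rw [h]
    rfl
  have hF : Monotone F := by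
    intro i i' hle
    let f : ⦋1⦌ ⟶ ⦋k⦌ := SimplexCategory.mkOfLe i i' hle
    have h0 := key e f (0 : Fin 2)
    have h1 := key e f (1 : Fin 2)
    calc F i = F (f.toOrderHom (0 : Fin 2)) := rfl
      _ ≤ F (f.toOrderHom (1 : Fin 2)) := by
        rw [← h0, ← h1]; exact (SSet.stdSimplex.objEquiv (a e f)).toOrderHom.monotone (Fin.zero_le _)
      _ = F i' := rfl
  refine ⟨SSet.stdSimplex.objEquiv.symm (SimplexCategory.Hom.mk ⟨F, hF⟩), fun j f => ?_,
    fun y hy => ?_⟩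
  · apply SSet.stdSimplex.objEquiv.injective
    ext l : 3
    rw [key]
    rfl
  · apply SSet.stdSimplex.objEquiv.injective
    ext l : 3
    show _ = a v (SimplexCategory.const _ _ l) (0 : Fin 1)
    rw [← hy]
    rfl

lemma cosk_exists_hom {W : SSet.{u}} (U : SSet.{u}) (n : ℕ) [SimplicialObject.IsCoskeletal U n]
    (h : ∀ j : SimplexCategory.Truncated n, W.obj (op j.obj) → U.obj (op j.obj))
    (nat : ∀ (i j : SimplexCategory.Truncated n) (g : i ⟶ j) (w : W.obj (op j.obj)),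
      h i (W.map g.hom.op w) = U.map g.hom.op (h j w)) :
    ∃ φ : W ⟶ U, ∀ (j : SimplexCategory.Truncated n) (w : W.obj (op j.obj)),
      φ.app (op j.obj) w = h j w := by
  choose x hx hu using fun (k : ℕ) (w : W.obj (op ⦋k⦌)) =>
    cosk_existsUnique U n (k := k) (fun j f => h j (W.map f.op w))
      (fun i j g f => by rw [op_comp, Functor.map_comp, comp_apply, nat])
  refine ⟨{ app := fun X => ↾fun w => x X.unop.len w, naturality := ?_ }, ?_⟩
  · rintro ⟨⟨k⟩⟩ ⟨⟨l⟩⟩ g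
    obtain ⟨g, rfl⟩ : ∃ g' : ⦋l⦌ ⟶ ⦋k⦌, g'.op = g := ⟨g.unop, rfl⟩
    ext w
    show x l (W.map g.op w) = U.map g.op (x k w)
    refine (hu l _ _ fun j f => ?_).symm
    show U.map f.op (U.map g.op (x k w)) = h j (W.map f.op (W.map g.op w))
    rw [← comp_apply, ← Functor.map_comp, ← op_comp, hx, op_comp, Functor.map_comp, comp_apply]
  · rintro ⟨⟨k⟩, hk⟩ w
    have h1 := hx k w ⟨⦋k⦌, hk⟩ (𝟙 _)
    rw [op_id, CategoryTheory.Functor.map_id, CategoryTheory.Functor.map_id, id_apply, id_apply]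
      at h1
    exact h1

lemma rlp_I_of_filler {X Y : SSet.{u}} (f : X ⟶ Y)
    (h : ∀ (m : ℕ) (b : (∂Δ[m] : SSet) ⟶ X) (t : Δ[m] ⟶ Y), b ≫ f = ∂Δ[m].ι ≫ t →
      ∃ l : Δ[m] ⟶ X, ∂Δ[m].ι ≫ l = b ∧ l ≫ f = t) :
    SSet.modelCategoryQuillen.I.rlp f := by
  intro _ _ _ hi
  obtain ⟨m⟩ := hi
  exact ⟨fun {b t} sq => by
    obtain ⟨l, h1, h2⟩ := h m b t sq.w
    exact ⟨⟨{ l := l, fac_left := h1, fac_right := h2 }⟩⟩⟩

lemma rlp_I_of_coskeletal {U V : SSet.{u}} (f : V ⟶ U) (n : ℕ)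
    (h1 : ∀ i : ℕ, i < n → Function.Bijective (f.app (op ⦋i⦌)))
    (h2 : Function.Surjective (f.app (op ⦋n⦌)))
    [SimplicialObject.IsCoskeletal U n] [SimplicialObject.IsCoskeletal V n] :
    SSet.modelCategoryQuillen.I.rlp f := by
  refine rlp_I_of_filler f fun m b t hbt => ?_
  by_cases hm : m ≤ n
  · obtain ⟨v, hv⟩ : ∃ v, f.app (op ⦋m⦌) v = SSet.yonedaEquiv t := by
      obtain hm | rfl := hm.lt_or_eq
      · exact (h1 m hm).2 _
      · exact h2 _
    have hl : SSet.yonedaEquiv.symm v ≫ f = t := by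
      apply SSet.yonedaEquiv.injective
      rw [SSet.yonedaEquiv_comp, Equiv.apply_symm_apply, hv]
    refine ⟨_, ?_, hl⟩
    obtain _ | m := m
    · exact SSet.boundary.hom_ext₀
    · refine SSet.boundary.hom_ext fun i => ?_
      apply SSet.yonedaEquiv.injective
      apply (h1 m (by lia)).1
      rw [← SSet.yonedaEquiv_comp, ← SSet.yonedaEquiv_comp]
      simp only [Category.assoc, hl, hbt]
  · push Not at hm
    have mem : ∀ (j : SimplexCategory.Truncated n) (g : j.obj ⟶ ⦋m⦌),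
        SSet.stdSimplex.objEquiv.symm g ∈ (∂Δ[m] : (Δ[m] : SSet.{u}).Subcomplex).obj (op j.obj) :=
      fun j g => by
        have hj : j.obj.len < m := lt_of_le_of_lt j.property hm
        have := SSet.boundary_obj_eq_univ.{u} j.obj.len m hj
        exact this.symm ▸ Set.mem_univ _
    obtain ⟨v, hv, -⟩ := cosk_existsUnique V n (k := m)
      (fun j g => b.app (op j.obj) ⟨_, mem j g⟩)
      (fun i j g h => by
        rw [← NatTrans.naturality_apply]
        rfl)
    refine ⟨SSet.yonedaEquiv.symm v, ?_, ?_⟩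
    · ext ⟨⟨k⟩⟩ ⟨s, hs⟩
      obtain ⟨g, rfl⟩ := SSet.stdSimplex.objEquiv.symm.surjective s
      show (SSet.yonedaEquiv.symm v).app _ (SSet.stdSimplex.objEquiv.symm g) = _
      rw [SSet.yonedaEquiv_symm_app_objEquiv_symm]
      refine cosk_ext n fun j hj h => ?_
      refine Eq.trans ?_ (NatTrans.naturality_apply b h.op ⟨_, hs⟩)
      rw [← comp_apply, ← Functor.map_comp, ← op_comp]
      exact hv ⟨⦋j⦌, hj⟩ (h ≫ g)
    · apply SSet.yonedaEquiv.injective
      rw [SSet.yonedaEquiv_comp, Equiv.apply_symm_apply]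
      refine cosk_ext n fun j hj h => ?_
      rw [← NatTrans.naturality_apply, hv ⟨⦋j⦌, hj⟩ h]
      refine (ConcreteCategory.congr_hom (congr_app hbt _) _).trans ?_
      show t.app _ (SSet.stdSimplex.objEquiv.symm h) = _
      conv_lhs => rw [← SSet.yonedaEquiv.symm_apply_apply t]
      rw [SSet.yonedaEquiv_symm_app_objEquiv_symm]

lemma exists_homotopy_of_coskeletal {U V : SSet.{u}} (f₀ f₁ : V ⟶ U) (n : ℕ)
    (h : ∀ i : ℕ, i < n → f₀.app (op ⦋i⦌) = f₁.app (op ⦋i⦌))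
    [SimplicialObject.IsCoskeletal U n] :
    Nonempty (SSet.Homotopy f₀ f₁) := by
  classical
  let isOne : ∀ (j : SimplexCategory), (Δ[1] : SSet.{u}).obj (op j) → Prop := fun j s =>
    ∀ l, (SSet.stdSimplex.objEquiv s).toOrderHom l = 1
  let H : ∀ j : SimplexCategory.Truncated n, (V ⊗ Δ[1]).obj (op j.obj) → U.obj (op j.obj) :=
    fun j p => if isOne j.obj p.2 then f₁.app _ p.1 else f₀.app _ p.1
  have agree : ∀ {i j : SimplexCategory} (g : i ⟶ j) (x : V.obj (op j)), i.len ≤ n → j.len ≤ n →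
      ¬ Mono g ∨ i.len < n ∨ j.len < n →
      f₀.app _ (V.map g.op x) = f₁.app _ (V.map g.op x) := by
    intro i j g x hi0 hj0 hg
    induction i using SimplexCategory.rec with | _ i
    induction j using SimplexCategory.rec with | _ j
    obtain hi | hi := em (i < n)
    · rw [h i hi]
    obtain hj' | hj' := em (j < n)
    · rw [NatTrans.naturality_apply, NatTrans.naturality_apply, h j hj']
    obtain hg : ¬ Mono g := by
      rcases hg with hg | hg | hg
      · exact hg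
      · exact (hi hg).elim
      · exact (hj' hg).elim
    obtain ⟨l, p, q, rfl, hq, hp, hl⟩ : ∃ (l : ℕ) (p : ⦋i⦌ ⟶ ⦋l⦌) (q : ⦋l⦌ ⟶ ⦋j⦌),
        g = p ≫ q ∧ Mono q ∧ Epi p ∧ l ≤ j :=
      ⟨(image g).len, factorThruImage g, image.ι g, (image.fac g).symm,
        (inferInstance : Mono (image.ι g)), (inferInstance : Epi (factorThruImage g)),
        SimplexCategory.len_le_of_mono (image.ι g)⟩
    have hl' : l < n := by
      by_contra hl'
      refine hg ?_
      have hli := SimplexCategory.len_le_of_epi p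
      have : IsIso p := (SimplexCategory.isIso_iff_of_epi p).2 (by
        simp only [SimplexCategory.len_mk] at *; lia)
      infer_instance
    rw [op_comp, Functor.map_comp, comp_apply, NatTrans.naturality_apply f₀ p.op,
      NatTrans.naturality_apply f₁ p.op, h l hl']
  have nat : ∀ (i j : SimplexCategory.Truncated n) (g : i ⟶ j) (p : (V ⊗ Δ[1]).obj (op j.obj)),
      H i ((V ⊗ Δ[1]).map g.hom.op p) = U.map g.hom.op (H j p) := by
    intro i j g p
    have one : isOne j.obj p.2 → isOne i.obj ((V ⊗ Δ[1]).map g.hom.op p).2 :=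
      fun hs l => hs (g.hom.toOrderHom l)
    by_cases hs : isOne j.obj p.2
    · simp only [H, if_pos hs, if_pos (one hs)]
      exact NatTrans.naturality_apply f₁ _ _
    · simp only [H, if_neg hs]
      by_cases hs' : isOne i.obj ((V ⊗ Δ[1]).map g.hom.op p).2
      · rw [if_pos hs']
        refine Eq.trans (agree g.hom p.1 i.property j.property ?_).symm (NatTrans.naturality_apply f₀ _ _)
        by_contra hc
        push Not at hc
        obtain ⟨hm, hi, hj⟩ := hc
        refine hs fun l => ?_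
        have hlen : i.obj.len = j.obj.len := by
          have := i.property; have := j.property; lia
        have : IsIso g.hom := SimplexCategory.isIso_of_bijective
          ⟨SimplexCategory.mono_iff_injective.1 hm, ((Fintype.bijective_iff_injective_and_card _).2
            ⟨SimplexCategory.mono_iff_injective.1 hm, by simp [hlen]⟩).2⟩
        obtain ⟨l', rfl⟩ := ((Fintype.bijective_iff_injective_and_card _).2
            ⟨SimplexCategory.mono_iff_injective.1 hm, by simp [hlen]⟩).2 l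
        exact hs' l'
      · rw [if_neg hs']
        exact NatTrans.naturality_apply f₀ _ _
  obtain ⟨φ, hφ⟩ := cosk_exists_hom U n H nat
  refine ⟨{ h := φ, h₀ := ?_, h₁ := ?_, rel := ?_ }⟩
  · ext ⟨⟨k⟩⟩ x
    refine cosk_ext n fun j hj g => ?_
    refine Eq.trans (NatTrans.naturality_apply φ g.op (SSet.ι₀.app _ x)).symm
      (Eq.trans ?_ (NatTrans.naturality_apply f₀ g.op x))
    refine (hφ ⟨⦋j⦌, hj⟩ _).trans (if_neg fun hs => ?_)
    exact (show ¬ (0 : Fin 2) = 1 by decide) (hs (0 : Fin (j + 1)))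
  · ext ⟨⟨k⟩⟩ x
    refine cosk_ext n fun j hj g => ?_
    refine Eq.trans (NatTrans.naturality_apply φ g.op (SSet.ι₁.app _ x)).symm
      (Eq.trans ?_ (NatTrans.naturality_apply f₁ g.op x))
    exact (hφ ⟨⦋j⦌, hj⟩ _).trans (if_pos fun l => rfl)
  · ext m ⟨⟨_, hx⟩, _⟩
    exact hx.elim

lemma exists_section_homotopy {X Y : SSet.{u}} (f : X ⟶ Y)
    (hf : SSet.modelCategoryQuillen.I.rlp f) :
    ∃ g : Y ⟶ X, g ≫ f = 𝟙 Y ∧ Nonempty (SSet.Homotopy (𝟙 X) (f ≫ g)) ∧
      Nonempty (SSet.Homotopy (f ≫ g) (𝟙 X)) := by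
  rw [← SSet.rlp_monomorphisms] at hf
  have lift : ∀ {A B : SSet.{u}} (i : A ⟶ B) [Mono i] (a : A ⟶ X) (b : B ⟶ Y),
      a ≫ f = i ≫ b → ∃ l : B ⟶ X, i ≫ l = a ∧ l ≫ f = b := by
    intro A B i _ a b w
    have := hf i (MorphismProperty.monomorphisms.infer_property i)
    exact ⟨(CommSq.mk w).lift, CommSq.fac_left _, CommSq.fac_right _⟩
  obtain ⟨g, -, hg⟩ := lift (⊥ : Y.Subcomplex).ι
    (SSet.Subcomplex.isInitialBot.to _) (𝟙 Y) (SSet.Subcomplex.isInitialBot.hom_ext _ _)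
  refine ⟨g, hg, ?_⟩
  suffices ∀ a₀ a₁ : X ⟶ X, a₀ ≫ f = f → a₁ ≫ f = f → Nonempty (SSet.Homotopy a₀ a₁) from
    ⟨this _ _ (Category.id_comp f) (by rw [Category.assoc, hg, Category.comp_id]),
      this _ _ (by rw [Category.assoc, hg, Category.comp_id]) (Category.id_comp f)⟩
  intro a₀ a₁ e₀ e₁
  let B : (X ⊗ Δ[1]).Subcomplex :=
    { obj := fun m => {p | ∀ k l, (SSet.stdSimplex.objEquiv p.2).toOrderHom k =
          (SSet.stdSimplex.objEquiv p.2).toOrderHom l}
      map := fun φ p hp k l => hp (φ.unop.toOrderHom k) (φ.unop.toOrderHom l) }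
  let a : (B : SSet) ⟶ X :=
    { app := fun m => ↾fun p =>
        if (SSet.stdSimplex.objEquiv p.1.2).toOrderHom 0 = 0 then a₀.app m p.1.1
        else a₁.app m p.1.1
      naturality := by
        intro m m' φ
        ext ⟨p, hp⟩
        show (if (SSet.stdSimplex.objEquiv ((X ⊗ Δ[1]).map φ p).2).toOrderHom 0 = 0 then _ else _)
          = X.map φ (if (SSet.stdSimplex.objEquiv p.2).toOrderHom 0 = 0 then _ else _)
        rw [show (SSet.stdSimplex.objEquiv ((X ⊗ Δ[1]).map φ p).2).toOrderHom 0 =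
          (SSet.stdSimplex.objEquiv p.2).toOrderHom 0 from hp _ _]
        split_ifs <;> exact NatTrans.naturality_apply _ _ _ }
  have w : a ≫ f = B.ι ≫ CartesianMonoidalCategory.fst X Δ[1] ≫ f := by
    ext m ⟨p, hp⟩
    show f.app m (if _ then _ else _) = f.app m p.1
    split_ifs
    · exact ConcreteCategory.congr_hom (congr_app e₀ m) p.1
    · exact ConcreteCategory.congr_hom (congr_app e₁ m) p.1
  obtain ⟨l, hl, -⟩ := lift B.ι a _ w
  refine ⟨{ h := l, h₀ := ?_, h₁ := ?_, rel := ?_ }⟩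
  · ext ⟨⟨k⟩⟩ x
    refine (ConcreteCategory.congr_hom (congr_app hl _) ⟨SSet.ι₀.app _ x, fun _ _ => rfl⟩).trans ?_
    show (if (0 : Fin 2) = 0 then a₀.app _ x else a₁.app _ x) = a₀.app _ x
    exact if_pos rfl
  · ext ⟨⟨k⟩⟩ x
    refine (ConcreteCategory.congr_hom (congr_app hl _) ⟨SSet.ι₁.app _ x, fun _ _ => rfl⟩).trans ?_
    show (if (1 : Fin 2) = 0 then a₀.app _ x else a₁.app _ x) = a₁.app _ x
    exact if_neg (show ¬ (1 : Fin 2) = 0 by decide)
  · ext m ⟨⟨_, hx⟩, _⟩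
    exact hx.elim

lemma rlp_I_cechNerve {A B : Type u} (f : A ⟶ B) (hf : Function.Surjective f) :
    SSet.modelCategoryQuillen.I.rlp (Arrow.mk f).augmentedCechNerve.hom := by
  refine rlp_I_of_filler _ fun m b t hbt => ?_
  let W := fun k : ℕ => widePullback.{0} B (fun _ : Fin (k + 1) => A) fun _ => f
  let π := fun (k : ℕ) (i : Fin (k + 1)) (x : W k) =>
    (WidePullback.π (B := B) (objs := fun _ : Fin (k + 1) => A) (fun _ => f) i) x
  have hπ : ∀ {k l : ℕ} (g : ⦋k⦌ ⟶ ⦋l⦌) (x : W l) (i : Fin (k + 1)),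
      π k i ((Arrow.mk f).cechNerve.map g.op x) = π l (g.toOrderHom i) x := by
    intro k l g x i
    exact ConcreteCategory.congr_hom (WidePullback.lift_π (arrows := fun _ : Fin (k + 1) => f) (f := WidePullback.base _) (fs := fun i => WidePullback.π _ (g.toOrderHom i)) (w := fun i => by simp) i) x
  have hbase : ∀ {k : ℕ} (x : W k) (i : Fin (k + 1)),
      f (π k i x) = WidePullback.base (objs := fun _ : Fin (k + 1) => A) (fun _ => f) x :=
    fun {k} x i => ConcreteCategory.congr_hom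
      (WidePullback.π_arrow (fun _ : Fin (k + 1) => f) i) x
  have hext : ∀ {k : ℕ} (x y : W k), (∀ i, π k i x = π k i y) → x = y := fun {k} x y hxy =>
    CategoryTheory.Limits.Concrete.widePullback_ext (fun _ : Fin (k + 1) => f) x y
      (((hbase x 0).symm.trans (congr_arg f (hxy 0))).trans (hbase y 0)) hxy
  let b₀ : B := SSet.yonedaEquiv t
  have ht : ∀ (k : ℕ) (s : (Δ[m] : SSet.{u}).obj (op ⦋k⦌)), t.app _ s = b₀ := by
    intro k s
    obtain ⟨g, rfl⟩ := SSet.stdSimplex.objEquiv.symm.surjective s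
    conv_lhs => rw [← SSet.yonedaEquiv.symm_apply_apply t]
    rw [SSet.yonedaEquiv_symm_app_objEquiv_symm]
    rfl
  have mem : 1 ≤ m → ∀ i : Fin (m + 1), SSet.stdSimplex.objEquiv.symm
      (SimplexCategory.const ⦋0⦌ ⦋m⦌ i) ∈ (∂Δ[m] : (Δ[m] : SSet.{u}).Subcomplex).obj (op ⦋0⦌) :=
    fun hm i => (SSet.boundary_obj_eq_univ.{u} 0 m hm).symm ▸ Set.mem_univ _
  obtain ⟨a, ha, hav⟩ : ∃ a : Fin (m + 1) → A, (∀ i, f (a i) = b₀) ∧
      ∀ (hm : 1 ≤ m) (i : Fin (m + 1)), π 0 0 (b.app _ ⟨_, mem hm i⟩) = a i := by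
    by_cases hm : 1 ≤ m
    · refine ⟨fun i => π 0 0 (b.app _ ⟨_, mem hm i⟩), fun i => ?_, fun _ _ => rfl⟩
      exact (hbase _ _).trans ((ConcreteCategory.congr_hom (congr_app hbt _) _).trans (ht 0 _))
    · exact ⟨fun _ => (hf b₀).choose, fun _ => (hf b₀).choose_spec, fun h => absurd h hm⟩
  obtain ⟨v, hv⟩ : ∃ v : W m, ∀ i, π m i v = a i := by
    refine ⟨WidePullback.lift (X := PUnit.{u+1}) (↾fun _ => b₀) (fun i => ↾fun _ => a i)
      (fun i => by ext; exact ha i) PUnit.unit, fun i => ?_⟩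
    exact ConcreteCategory.congr_hom (WidePullback.lift_π (X := PUnit.{u+1}) (arrows := fun _ : Fin (m + 1) => f) (f := ↾fun _ => b₀) (fs := fun i => ↾fun _ => a i) (w := fun i => by ext; exact ha i) i) PUnit.unit
  refine ⟨(SSet.yonedaEquiv (X := (Arrow.mk f).cechNerve)).symm v, ?_, ?_⟩
  · obtain _ | m' := m
    · exact SSet.boundary.hom_ext₀
    · ext ⟨⟨k⟩⟩ ⟨s, hs⟩
      obtain ⟨g, rfl⟩ := SSet.stdSimplex.objEquiv.symm.surjective s
      show ((SSet.yonedaEquiv (X := (Arrow.mk f).cechNerve)).symm v).app _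
        (SSet.stdSimplex.objEquiv.symm g) = _
      rw [SSet.yonedaEquiv_symm_app_objEquiv_symm]
      refine hext (k := k) _ _ fun i => ?_
      refine ((hπ g v i).trans ((hv _).trans (hav (by lia) _).symm)).trans ?_
      refine Eq.trans ?_ (hπ (SimplexCategory.const ⦋0⦌ ⦋k⦌ i) _ 0)
      congr 1
      exact NatTrans.naturality_apply b (SimplexCategory.const ⦋0⦌ ⦋k⦌ i).op ⟨_, hs⟩
  · apply SSet.yonedaEquiv.injective
    rw [SSet.yonedaEquiv_comp]
    refine (congr_arg _ ((SSet.yonedaEquiv (X := (Arrow.mk f).cechNerve)).apply_symm_apply v)).trans ?_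
    show WidePullback.base (objs := fun _ : Fin (m + 1) => A) (fun _ => f) v = b₀
    rw [← hbase v 0, hv, ha]

end Groth.Agent.SSet45
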