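import Mathlib.Algebra.Category.Grp.Abelian
import Mathlib.Algebra.Homology.ShortComplex.Ab
import Mathlib.Algebra.Homology.QuasiIso

universe u

open CategoryTheory Limits

namespace Groth.Agent.SSet45

variable {K L : ChainComplex AddCommGrpCat.{u} ℕ}

/-- The cycle with given underlying element. -/
noncomputable def zMk (n : ℕ) (z : K.X n) (hz : ∀ j, K.d n j z = 0) : K.cycles n :=
  (K.sc n).abCyclesIso.inv ⟨z, hz _⟩

lemma iCycles_zMk (n : ℕ) (z : K.X n) (hz : ∀ j, K.d n j z = 0) :
    K.iCycles n (zMk n z hz) = z :=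
  (K.sc n).abCyclesIso_inv_apply_iCycles ⟨z, hz _⟩

lemma iCycles_d_apply (n j : ℕ) (c : K.cycles n) : K.d n j (K.iCycles n c) = 0 := by
  rw [← ConcreteCategory.comp_apply, K.iCycles_d]
  rfl

lemma homologyπ_surjective (n : ℕ) : Function.Surjective (K.homologyπ n) :=
  (AddCommGrpCat.epi_iff_surjective _).1 inferInstance

lemma iCycles_injective (n : ℕ) : Function.Injective (K.iCycles n) :=
  (AddCommGrpCat.mono_iff_injective _).1 inferInstance

lemma homologyπ_eq_zero_iff (n : ℕ) (c : K.cycles n) :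
    K.homologyπ n c = 0 ↔ ∃ w : K.X (n + 1), K.d (n + 1) n w = K.iCycles n c := by
  constructor
  · intro h
    have hex : (ShortComplex.mk (K.toCycles (n + 1) n) (K.homologyπ n)
        (by simp)).Exact :=
      ShortComplex.exact_of_g_is_cokernel _ (K.homologyIsCokernel (n + 1) n (by simp))
    obtain ⟨w, hw⟩ := (ShortComplex.ab_exact_iff _).1 hex c h
    refine ⟨w, ?_⟩
    rw [← hw]
    exact (ConcreteCategory.congr_hom (K.toCycles_i (n + 1) n) w).symm
  · rintro ⟨w, hw⟩
    obtain rfl : K.toCycles (n + 1) n w = c := iCycles_injective n (by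
      rw [← hw]; exact ConcreteCategory.congr_hom (K.toCycles_i (n + 1) n) w)
    rw [← ConcreteCategory.comp_apply, K.toCycles_comp_homologyπ]
    rfl

lemma quasiIso_of_elements (f : K ⟶ L)
    (hs : ∀ (n : ℕ) (y : L.X n), (∀ j, L.d n j y = 0) →
      ∃ x : K.X n, (∀ j, K.d n j x = 0) ∧ ∃ w, L.d (n + 1) n w = f.f n x - y)
    (hi : ∀ (n : ℕ) (x : K.X n), (∀ j, K.d n j x = 0) →
      (∃ w, L.d (n + 1) n w = f.f n x) → ∃ v, K.d (n + 1) n v = x) :
    QuasiIso f := by
  refine ⟨fun n => ?_⟩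
  rw [quasiIsoAt_iff_isIso_homologyMap]
  have hmono : Mono (HomologicalComplex.homologyMap f n) := by
    rw [AddCommGrpCat.mono_iff_injective, injective_iff_map_eq_zero]
    intro a ha
    obtain ⟨c, rfl⟩ := homologyπ_surjective n a
    rw [homologyπ_eq_zero_iff]
    refine hi n _ (fun j => iCycles_d_apply n j c) ?_
    rw [← ConcreteCategory.comp_apply, HomologicalComplex.homologyπ_naturality,
      ConcreteCategory.comp_apply, homologyπ_eq_zero_iff] at ha
    obtain ⟨w, hw⟩ := ha
    refine ⟨w, hw.trans ?_⟩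
    rw [← ConcreteCategory.comp_apply, HomologicalComplex.cyclesMap_i]
    rfl
  have hepi : Epi (HomologicalComplex.homologyMap f n) := by
    rw [AddCommGrpCat.epi_iff_surjective]
    intro b
    obtain ⟨c, rfl⟩ := homologyπ_surjective n b
    obtain ⟨x, hx, w, hw⟩ := hs n _ (fun j => iCycles_d_apply n j c)
    refine ⟨K.homologyπ n (zMk n x hx), ?_⟩
    rw [← ConcreteCategory.comp_apply, HomologicalComplex.homologyπ_naturality,
      ConcreteCategory.comp_apply, ← sub_eq_zero, ← map_sub, homologyπ_eq_zero_iff]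
    refine ⟨w, hw.trans ?_⟩
    rw [map_sub, ← ConcreteCategory.comp_apply (HomologicalComplex.cyclesMap f n),
      HomologicalComplex.cyclesMap_i, ConcreteCategory.comp_apply, iCycles_zMk]
  exact isIso_of_mono_of_epi _

lemma exists_of_quasiIso_surj (f : K ⟶ L) [QuasiIso f] (n : ℕ) (y : L.X n)
    (hy : ∀ j, L.d n j y = 0) :
    ∃ x : K.X n, (∀ j, K.d n j x = 0) ∧ ∃ w, L.d (n + 1) n w = f.f n x - y := by
  obtain ⟨a, ha⟩ := (ConcreteCategory.bijective_of_isIso
    (HomologicalComplex.homologyMap f n)).2 (L.homologyπ n (zMk n y hy))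
  obtain ⟨c, rfl⟩ := homologyπ_surjective n a
  refine ⟨K.iCycles n c, fun j => iCycles_d_apply n j c, ?_⟩
  rw [← ConcreteCategory.comp_apply, HomologicalComplex.homologyπ_naturality,
      ConcreteCategory.comp_apply, ← sub_eq_zero, ← map_sub, homologyπ_eq_zero_iff] at ha
  obtain ⟨w, hw⟩ := ha
  refine ⟨w, hw.trans ?_⟩
  rw [map_sub, ← ConcreteCategory.comp_apply (HomologicalComplex.cyclesMap f n),
      HomologicalComplex.cyclesMap_i, ConcreteCategory.comp_apply, iCycles_zMk]

lemma exists_of_quasiIso_inj (f : K ⟶ L) [QuasiIso f] (n : ℕ) (x : K.X n)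
    (hx : ∀ j, K.d n j x = 0) (h : ∃ w, L.d (n + 1) n w = f.f n x) :
    ∃ v, K.d (n + 1) n v = x := by
  have : K.homologyπ n (zMk n x hx) = 0 := by
    refine (ConcreteCategory.bijective_of_isIso (HomologicalComplex.homologyMap f n)).1 ?_
    rw [← ConcreteCategory.comp_apply, HomologicalComplex.homologyπ_naturality,
      ConcreteCategory.comp_apply, map_zero, homologyπ_eq_zero_iff]
    obtain ⟨w, hw⟩ := h
    refine ⟨w, hw.trans ?_⟩
    rw [← ConcreteCategory.comp_apply (HomologicalComplex.cyclesMap f n),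
      HomologicalComplex.cyclesMap_i, ConcreteCategory.comp_apply, iCycles_zMk]
  rw [homologyπ_eq_zero_iff] at this
  obtain ⟨v, hv⟩ := this
  exact ⟨v, hv.trans (iCycles_zMk n x hx)⟩

end Groth.Agent.SSet45
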