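import Groth.Agent.SSet45.Filler
import Groth.Agent.SSet45.ChainElements
import Groth.Agent.SSet45.Coskeletal
import Mathlib.AlgebraicTopology.DoldKan.PInfty

universe u

open CategoryTheory Simplicial Opposite Limits AlgebraicTopology

namespace Groth.Agent.SSet45

lemma compat_elements {Z : SSet.{u}} {m : ℕ} {i : Fin (m + 3)}
    {F : ∀ j : Fin (m + 3), j ≠ i → (Δ[m + 1] ⟶ Z)} (hF : SSet.horn.IsCompatible F)
    (a b : Fin (m + 2)) (hab : a ≤ b) (ha : a.castSucc ≠ i) (hb : b.succ ≠ i) :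
    Z.map (SimplexCategory.δ a).op (SSet.yonedaEquiv (F b.succ hb)) =
      Z.map (SimplexCategory.δ b).op (SSet.yonedaEquiv (F a.castSucc ha)) := by
  have h := hF a.castSucc b.succ ha hb (Fin.castSucc_lt_succ_iff.2 hab)
  simp only [Fin.pred_succ, Fin.castPred_castSucc] at h
  rw [SSet.yonedaEquiv_naturality, SSet.yonedaEquiv_naturality]
  exact congr_arg SSet.yonedaEquiv h.symm

theorem kanComplex_group (X : SimplicialObject GrpCat.{u}) :
    SSet.KanComplex (X ⋙ forget GrpCat.{u}) := by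
  rw [SSet.KanComplex.iff]
  intro n i F hF
  let x : Fin (n + 2) → X _⦋n⦌ := fun j => if h : j = i then 1 else SSet.yonedaEquiv (F j h)
  have hx : ∀ j (hj : j ≠ i), x j = SSet.yonedaEquiv (F j hj) := fun j hj => dif_neg hj
  obtain ⟨y, hy⟩ : ∃ y : X _⦋n + 1⦌, ∀ j, j ≠ i → X.δ j y = x j := by
    obtain _ | m := n
    · obtain ⟨y, -, hy⟩ := filler_aux_zero (fun j => (X.δ j).hom) (X.σ 0).hom
        (fun j x => by
          fin_cases j
          · exact ConcreteCategory.congr_hom (X.δ_comp_σ_self (i := (0 : Fin 1))) x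
          · exact ConcreteCategory.congr_hom (X.δ_comp_σ_succ (i := (0 : Fin 1))) x)
        ⊤ ⊤ (fun _ _ => Subgroup.mem_top _) i x 1 (fun _ _ => Subgroup.mem_top _)
      exact ⟨y, hy⟩
    · obtain ⟨y, -, hy⟩ := filler_aux (fun j => (X.δ j).hom) (fun j => (X.δ j).hom)
        (fun j => (X.σ j).hom) (fun j => (X.σ j).hom)
        (fun a b h x => ConcreteCategory.congr_hom (X.δ_comp_δ h) x)
        (fun a x => ConcreteCategory.congr_hom (X.δ_comp_σ_self (i := a)) x)
        (fun a x => ConcreteCategory.congr_hom (X.δ_comp_σ_succ (i := a)) x)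
        (fun a b h x => ConcreteCategory.congr_hom (X.δ_comp_σ_of_le h) x)
        (fun a b h x => ConcreteCategory.congr_hom (X.δ_comp_σ_of_gt h) x)
        ⊤ ⊤ (fun _ _ _ => Subgroup.mem_top _) (fun _ _ _ => Subgroup.mem_top _) i x
        (fun a b hab ha hb => by
          rw [hx _ ha, hx _ hb]
          exact compat_elements hF a b hab ha hb)
        1 (fun _ _ => Subgroup.mem_top _)
      exact ⟨y, hy⟩
  refine ⟨SSet.yonedaEquiv.symm y, fun j hj => SSet.yonedaEquiv.injective ?_⟩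
  refine (SSet.yonedaEquiv_naturality (SimplexCategory.δ j) _).symm.trans ?_
  rw [Equiv.apply_symm_apply]
  exact (hy j hj).trans (hx j hj)

lemma rlp_J_of_filler {U V : SSet.{u}} (p : U ⟶ V)
    (h : ∀ (n : ℕ) (i : Fin (n + 2)) (b : (Λ[n + 1, i] : SSet) ⟶ U) (t : Δ[n + 1] ⟶ V),
      b ≫ p = Λ[n + 1, i].ι ≫ t → ∃ l : Δ[n + 1] ⟶ U, Λ[n + 1, i].ι ≫ l = b ∧ l ≫ p = t) :
    SSet.modelCategoryQuillen.J.rlp p := by
  intro _ _ _ hg
  simp only [SSet.modelCategoryQuillen.J, MorphismProperty.iSup_iff] at hg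
  obtain ⟨n, ⟨i⟩⟩ := hg
  exact ⟨fun {b t} sq => by
    obtain ⟨l, h1, h2⟩ := h n i b t sq.w
    exact ⟨⟨{ l := l, fac_left := h1, fac_right := h2 }⟩⟩⟩

variable {X Y : SimplicialObject AddCommGrpCat.{u}} (f : X ⟶ Y)

lemma exists_filler (n : ℕ) (i : Fin (n + 2))
    (F : ∀ j : Fin (n + 2), j ≠ i → (Δ[n] ⟶ (X ⋙ forget AddCommGrpCat.{u} : SSet.{u})))
    (hF : SSet.horn.IsCompatible F) (y₀ : X _⦋n + 1⦌)
    (hy : ∀ j (hj : j ≠ i),
      f.app _ (X.δ j y₀) = f.app (op ⦋n⦌) (SSet.yonedaEquiv (F j hj))) :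
    ∃ y : X _⦋n + 1⦌, f.app _ y = f.app _ y₀ ∧
      ∀ j (hj : j ≠ i), X.δ j y = SSet.yonedaEquiv (F j hj) := by
  let x : Fin (n + 2) → X _⦋n⦌ := fun j => if h : j = i then 0 else SSet.yonedaEquiv (F j h)
  have hx : ∀ j (hj : j ≠ i), x j = SSet.yonedaEquiv (F j hj) := fun j hj => dif_neg hj
  let K : ∀ k : ℕ, AddSubgroup (X _⦋k⦌) := fun k => (f.app (op ⦋k⦌)).hom.ker
  have hy' : ∀ j, j ≠ i → -(X.δ j y₀) + x j ∈ K n := by
    intro j hj
    show f.app _ (-(X.δ j y₀) + x j) = 0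
    rw [map_add, map_neg, hy j hj, hx j hj, neg_add_cancel]
  have hmap : ∀ {k l : ℕ} (g : ⦋k⦌ ⟶ ⦋l⦌), ∀ z ∈ K l, X.map g.op z ∈ K k := by
    intro k l g z hz
    show f.app _ (X.map g.op z) = 0
    rw [NatTrans.naturality_apply, show f.app _ z = 0 from hz, map_zero]
  suffices ∃ y : X _⦋n + 1⦌, -y₀ + y ∈ K (n + 1) ∧ ∀ j, j ≠ i → X.δ j y = x j by
    obtain ⟨y, hk, hy⟩ := this
    refine ⟨y, ?_, fun j hj => (hy j hj).trans (hx j hj)⟩
    have : f.app _ (-y₀ + y) = 0 := hk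
    rwa [map_add, map_neg, neg_add_eq_zero, eq_comm] at this
  obtain _ | m := n
  · exact add_filler_aux_zero (fun j => (X.δ j).hom) (X.σ 0).hom
      (fun j x => by
        fin_cases j
        · exact ConcreteCategory.congr_hom (X.δ_comp_σ_self (i := (0 : Fin 1))) x
        · exact ConcreteCategory.congr_hom (X.δ_comp_σ_succ (i := (0 : Fin 1))) x)
      (K 0) (K 1) (fun z hz => hmap _ z hz) i x y₀ hy'
  · exact add_filler_aux (fun j => (X.δ j).hom) (fun j => (X.δ j).hom)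
      (fun j => (X.σ j).hom) (fun j => (X.σ j).hom)
      (fun a b h x => ConcreteCategory.congr_hom (X.δ_comp_δ h) x)
      (fun a x => ConcreteCategory.congr_hom (X.δ_comp_σ_self (i := a)) x)
      (fun a x => ConcreteCategory.congr_hom (X.δ_comp_σ_succ (i := a)) x)
      (fun a b h x => ConcreteCategory.congr_hom (X.δ_comp_σ_of_le h) x)
      (fun a b h x => ConcreteCategory.congr_hom (X.δ_comp_σ_of_gt h) x)
      (K (m + 1)) (K (m + 2)) (fun a z hz => hmap _ z hz) (fun a z hz => hmap _ z hz) i x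
      (fun a b hab ha hb => by
        rw [hx _ ha, hx _ hb]
        exact compat_elements hF a b hab ha hb)
      y₀ hy'

theorem kanFibration_of_surjective (hf : ∀ n, Function.Surjective (f.app n)) :
    SSet.modelCategoryQuillen.J.rlp (X := X ⋙ forget AddCommGrpCat.{u})
      (Y := Y ⋙ forget AddCommGrpCat.{u}) (Functor.whiskerRight f (forget AddCommGrpCat.{u})) := by
  refine rlp_J_of_filler _ fun n i b t hbt => ?_
  obtain ⟨y₀, hy₀⟩ := hf _ (SSet.yonedaEquiv t)
  obtain ⟨y, hy, hfy⟩ : ∃ y : X _⦋n + 1⦌, f.app _ y = f.app _ y₀ ∧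
      ∀ j (hj : j ≠ i), X.δ j y = SSet.yonedaEquiv (SSet.horn.ι i j hj ≫ b) := by
    refine exists_filler f n i _ (SSet.horn.IsCompatible.of_hom b) y₀ fun j hj => ?_
    refine (NatTrans.naturality_apply f (SimplexCategory.δ j).op y₀).trans
      ((congr_arg _ hy₀).trans ?_)
    refine (SSet.yonedaEquiv_naturality (SimplexCategory.δ j) t).trans ?_
    refine (congr_arg SSet.yonedaEquiv ?_).trans
      (SSet.yonedaEquiv_comp (SSet.horn.ι i j hj ≫ b) (Functor.whiskerRight f _))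
    exact (SSet.horn.ι_ι_assoc i j hj t).symm.trans
      ((congr_arg (SSet.horn.ι i j hj ≫ ·) hbt.symm).trans (Category.assoc _ _ _).symm)
  refine ⟨SSet.yonedaEquiv.symm y, ?_, ?_⟩
  · refine SSet.horn.hom_ext' fun j hj => SSet.yonedaEquiv.injective ?_
    rw [SSet.horn.ι_ι_assoc]
    refine (SSet.yonedaEquiv_naturality (SimplexCategory.δ j) _).symm.trans ?_
    rw [Equiv.apply_symm_apply]
    exact hfy j hj
  · apply SSet.yonedaEquiv.injective
    rw [SSet.yonedaEquiv_comp, Equiv.apply_symm_apply]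
    exact hy.trans hy₀

lemma altComplex_d_apply (Z : SimplicialObject AddCommGrpCat.{u}) (n : ℕ) (z : Z _⦋n + 1⦌) :
    ((alternatingFaceMapComplex AddCommGrpCat.{u}).obj Z).d (n + 1) n z =
      ∑ i : Fin (n + 2), (-1 : ℤ) ^ (i : ℕ) • Z.δ i z := by
  rw [alternatingFaceMapComplex_obj_d]
  exact map_sum (AddMonoidHom.mk' (fun g : Z _⦋n + 1⦌ ⟶ Z _⦋n⦌ => g z) (fun _ _ => rfl)) _ _

lemma isCycle_of_faces (Z : SimplicialObject AddCommGrpCat.{u}) (n : ℕ) (z : Z _⦋n⦌)
    (hz : ∀ m (h : n = m + 1) (j : Fin (m + 2)),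
      Z.δ j (cast (by subst h; rfl) z : Z _⦋m + 1⦌) = 0) (j : ℕ) :
    ((alternatingFaceMapComplex AddCommGrpCat.{u}).obj Z).d n j z = 0 := by
  by_cases h : j + 1 = n
  · subst h
    rw [altComplex_d_apply]
    exact Finset.sum_eq_zero fun i _ => by
      rw [show Z.δ i z = 0 from hz j rfl i, smul_zero]
  · rw [HomologicalComplex.shape _ _ _ h]
    rfl

lemma d_eq_δ_zero (Z : SimplicialObject AddCommGrpCat.{u}) (n : ℕ) (z : Z _⦋n + 1⦌)
    (hz : ∀ j : Fin (n + 1), Z.δ j.succ z = 0) :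
    ((alternatingFaceMapComplex AddCommGrpCat.{u}).obj Z).d (n + 1) n z = Z.δ 0 z := by
  rw [altComplex_d_apply, Fin.sum_univ_succ]
  simp [hz]

lemma δ_succ_PInfty (Z : SimplicialObject AddCommGrpCat.{u}) (n : ℕ) (z : Z _⦋n + 1⦌)
    (j : Fin (n + 1)) : Z.δ j.succ ((DoldKan.PInfty (X := Z)).f (n + 1) z) = 0 := by
  have h := DoldKan.HigherFacesVanish.of_P (X := Z) (n + 1) n j (by omega)
  exact ConcreteCategory.congr_hom h z

lemma PInfty_eq_self (Z : SimplicialObject AddCommGrpCat.{u}) (n : ℕ) (z : Z _⦋n + 1⦌)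
    (hz : ∀ j : Fin (n + 1), Z.δ j.succ z = 0) :
    (DoldKan.PInfty (X := Z)).f (n + 1) z = z := by
  let φ : AddCommGrpCat.of (ULift.{u} ℤ) ⟶ Z _⦋n + 1⦌ :=
    AddCommGrpCat.ofHom ((zmultiplesHom _ z).comp AddEquiv.ulift.toAddMonoidHom)
  have hφ : φ (ULift.up 1) = z := one_zsmul z
  have hv : DoldKan.HigherFacesVanish (n + 1) φ := by
    intro j _
    ext ⟨k⟩
    show Z.δ j.succ ((k : ℤ) • z) = 0
    rw [map_zsmul, hz, smul_zero]
  have := ConcreteCategory.congr_hom hv.comp_P_eq_self (ULift.up 1)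
  rw [ConcreteCategory.comp_apply, hφ] at this
  exact this

theorem trivialFibration_of_surjective (hf : ∀ n, Function.Surjective (f.app n))
    (hq : QuasiIso ((alternatingFaceMapComplex AddCommGrpCat.{u}).map f)) :
    SSet.modelCategoryQuillen.I.rlp (X := X ⋙ forget AddCommGrpCat.{u})
      (Y := Y ⋙ forget AddCommGrpCat.{u}) (Functor.whiskerRight f (forget AddCommGrpCat.{u})) := by
  refine rlp_I_of_filler _ fun m b t hbt => ?_
  obtain _ | n := m
  · obtain ⟨v, hv⟩ := hf _ (SSet.yonedaEquiv t)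
    refine ⟨SSet.yonedaEquiv.symm v, SSet.boundary.hom_ext₀, SSet.yonedaEquiv.injective ?_⟩
    rw [SSet.yonedaEquiv_comp, Equiv.apply_symm_apply]
    exact hv
  let x : Fin (n + 2) → X _⦋n⦌ := fun j => SSet.yonedaEquiv (SSet.boundary.ι j ≫ b)
  obtain ⟨y₀, hy₀⟩ := hf _ (SSet.yonedaEquiv t)
  have hfx : ∀ j, f.app _ (X.δ j y₀) = f.app _ (x j) := fun j => by
    refine (NatTrans.naturality_apply f (SimplexCategory.δ j).op y₀).trans
      ((congr_arg _ hy₀).trans ?_)
    refine (SSet.yonedaEquiv_naturality (SimplexCategory.δ j) t).trans ?_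
    refine (congr_arg SSet.yonedaEquiv ?_).trans (SSet.yonedaEquiv_comp (SSet.boundary.ι j ≫ b) (Functor.whiskerRight f _))
    exact (SSet.boundary.ι_ι_assoc j t).symm.trans
      ((congr_arg (SSet.boundary.ι j ≫ ·) hbt.symm).trans (Category.assoc _ _ _).symm)
  have hle : SSet.horn.{u} (n + 1) 0 ≤ SSet.boundary (n + 1) := by
    rw [SSet.horn_eq_iSup, SSet.boundary_eq_iSup]
    exact iSup_le fun j => le_iSup (fun k : Fin (n + 2) => SSet.stdSimplex.face {k}ᶜ) j.1
  obtain ⟨y, hfy, hy⟩ := exists_filler f n 0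
    (fun j hj => SSet.horn.ι 0 j hj ≫ SSet.Subcomplex.homOfLE hle ≫ b)
    (SSet.horn.IsCompatible.of_hom _) y₀ (fun j hj => by
      rw [hfx j]
      congr 2)
  have hy' : ∀ j : Fin (n + 2), j ≠ 0 → X.δ j y = x j := fun j hj => by
    refine (hy j hj).trans ?_
    show SSet.yonedaEquiv _ = SSet.yonedaEquiv _
    congr 1
  let r : X _⦋n⦌ := x 0 - X.δ 0 y
  have hr : f.app _ r = 0 := by
    show f.app _ (x 0 - X.δ 0 y) = 0
    rw [map_sub, sub_eq_zero, ← hfx 0]
    show f.app _ (X.map _ y₀) = f.app _ (X.map _ y)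
    rw [NatTrans.naturality_apply, NatTrans.naturality_apply, hfy]
  have hfaces : ∀ m (h : n = m + 1) (j : Fin (m + 2)),
      X.δ j (cast (by subst h; rfl) r : X _⦋m + 1⦌) = 0 := by
    rintro m rfl j
    have hne : (j.succ : Fin (m + 3)) ≠ 0 := Fin.succ_ne_zero j
    show X.δ j (x 0 - X.δ 0 y) = 0
    rw [map_sub, sub_eq_zero]
    have h1 : X.δ 0 (X.δ j.succ y) = X.δ j (X.δ (0 : Fin (m + 2)).castSucc y) :=
      ConcreteCategory.congr_hom (X.δ_comp_δ (Fin.zero_le j)) y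
    rw [hy' _ hne] at h1
    refine Eq.trans ?_ h1
    have h2 : (SSet.stdSimplex.δ (0 : Fin (m + 2)) ≫
          SSet.boundary.ι.{u} j.succ =
        SSet.stdSimplex.δ j ≫ SSet.boundary.ι (0 : Fin (m + 2)).castSucc) := by
      rw [← cancel_mono (SSet.Subcomplex.ι _)]
      simp only [Category.assoc, SSet.boundary.ι_ι]
      exact SSet.stdSimplex.δ_comp_δ (Fin.zero_le j)
    refine (SSet.yonedaEquiv_naturality (X := X ⋙ forget AddCommGrpCat.{u}) (SimplexCategory.δ j)
      (SSet.boundary.ι (0 : Fin (m + 2)).castSucc ≫ b)).trans ?_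
    refine Eq.trans ?_ (SSet.yonedaEquiv_naturality (X := X ⋙ forget AddCommGrpCat.{u})
      (SimplexCategory.δ (0 : Fin (m + 2))) (SSet.boundary.ι j.succ ≫ b)).symm
    exact congr_arg SSet.yonedaEquiv ((Category.assoc _ _ _).symm.trans
      ((congr_arg (· ≫ b) h2.symm).trans (Category.assoc _ _ _)))
  obtain ⟨w, hwf, hwd⟩ : ∃ w : X _⦋n + 1⦌, f.app _ w = 0 ∧
      ((alternatingFaceMapComplex AddCommGrpCat.{u}).obj X).d (n + 1) n w = r := by
    let φ := (alternatingFaceMapComplex AddCommGrpCat.{u}).map f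
    have hφ : ∀ k (z : X _⦋k⦌), φ.f k z = f.app _ z := fun k z => rfl
    have hd : ∀ i j z, ((alternatingFaceMapComplex AddCommGrpCat.{u}).obj Y).d i j (φ.f i z) =
        φ.f j (((alternatingFaceMapComplex AddCommGrpCat.{u}).obj X).d i j z) :=
      fun i j z => (ConcreteCategory.congr_hom (φ.comm i j) z)
    have hd2 : ∀ i j k z, ((alternatingFaceMapComplex AddCommGrpCat.{u}).obj X).d j k
        (((alternatingFaceMapComplex AddCommGrpCat.{u}).obj X).d i j z) = 0 := fun i j k z => by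
      rw [← ConcreteCategory.comp_apply, HomologicalComplex.d_comp_d]
      rfl
    obtain ⟨v, hv⟩ := exists_of_quasiIso_inj φ n r (isCycle_of_faces X n r hfaces)
      ⟨0, by rw [map_zero, hφ, hr]⟩
    have hfv : ∀ j, ((alternatingFaceMapComplex AddCommGrpCat.{u}).obj Y).d (n + 1) j
        (φ.f (n + 1) v) = 0 := fun j => by
      by_cases h : j = n
      · subst h; rw [hd, hv, hφ, hr]
      · rw [HomologicalComplex.shape _ _ _ (by simpa using h)]; rfl
    obtain ⟨c, hc, z, hz⟩ := exists_of_quasiIso_surj φ (n + 1) _ hfv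
    obtain ⟨z', hz'⟩ := hf _ z
    have hz'' : φ.f (n + 1) (((alternatingFaceMapComplex AddCommGrpCat.{u}).obj X).d
        (n + 1 + 1) (n + 1) z') = φ.f (n + 1) c - φ.f (n + 1) v := by
      rw [← hd, hφ, hz', hz]
    refine ⟨v - c + ((alternatingFaceMapComplex AddCommGrpCat.{u}).obj X).d
      (n + 1 + 1) (n + 1) z', ?_, ?_⟩
    · show φ.f (n + 1) _ = 0
      rw [map_add, map_sub, hz'', sub_add_sub_cancel', sub_self]
    · rw [map_add, map_sub, hd2, hc, hv, sub_zero, add_zero]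
  let w' : X _⦋n + 1⦌ := (DoldKan.PInfty (X := X)).f (n + 1) w
  have hw'0 : X.δ 0 w' = r := by
    rw [← d_eq_δ_zero X n w' (δ_succ_PInfty X n w)]
    refine (ConcreteCategory.congr_hom ((DoldKan.PInfty (X := X)).comm (n + 1) n) w).trans ?_
    refine (congr_arg ((DoldKan.PInfty (X := X)).f n) hwd).trans ?_
    obtain _ | m := n
    · rw [DoldKan.PInfty_f_0]; rfl
    · exact PInfty_eq_self X m r fun j => hfaces m rfl j.succ
  have hw'f : f.app _ w' = 0 := by
    refine (ConcreteCategory.congr_hom (DoldKan.PInfty_f_naturality (n + 1) f) w).symm.trans ?_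
    show (DoldKan.PInfty (X := Y)).f (n + 1) (f.app _ w) = 0
    rw [hwf, map_zero]
  refine ⟨SSet.yonedaEquiv.symm (y + w'), ?_, ?_⟩
  · refine SSet.boundary.hom_ext fun j => SSet.yonedaEquiv.injective ?_
    rw [SSet.boundary.ι_ι_assoc]
    refine (SSet.yonedaEquiv_naturality (SimplexCategory.δ j) _).symm.trans ?_
    rw [Equiv.apply_symm_apply]
    show X.δ j (y + w') = x j
    rw [map_add]
    obtain rfl | hj := eq_or_ne j 0
    · rw [hw'0]; exact add_sub_cancel _ _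
    · obtain ⟨k, rfl⟩ := Fin.eq_succ_of_ne_zero hj
      rw [hy' _ hj, show X.δ k.succ w' = 0 from δ_succ_PInfty X n w k, add_zero]
  · apply SSet.yonedaEquiv.injective
    rw [SSet.yonedaEquiv_comp, Equiv.apply_symm_apply]
    show f.app _ (y + w') = _
    rw [map_add, hw'f, add_zero, hfy]
    exact hy₀

end Groth.Agent.SSet45
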