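import Mathlib.AlgebraicTopology.SimplicialSet.Skeleton
import Mathlib.AlgebraicTopology.SimplicialSet.Dimension
import Mathlib.CategoryTheory.Functor.KanExtension.Adjunction
import Mathlib.CategoryTheory.Functor.KanExtension.Pointwise

universe u

open CategoryTheory Simplicial Opposite Limits

namespace Groth.Agent.SSet45

lemma injective_of_nonDegenerate {U V : SSet.{u}} (f : U ⟶ V)
    (ha : ∀ (n : ℕ) (x : U.obj (op ⦋n⦌)), x ∈ U.nonDegenerate n →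
      f.app (op ⦋n⦌) x ∈ V.nonDegenerate n)
    (hb : ∀ n : ℕ, Set.InjOn (f.app (op ⦋n⦌)) (U.nonDegenerate n)) (n : ℕ) :
    Function.Injective (f.app (op ⦋n⦌)) := by
  intro x y h
  obtain ⟨m, p, _, x', rfl⟩ := U.exists_nonDegenerate x
  obtain ⟨m', q, _, y', rfl⟩ := U.exists_nonDegenerate y
  have hx := NatTrans.naturality_apply f p.op x'.1
  have hy := NatTrans.naturality_apply f q.op y'.1
  obtain rfl : m = m' := V.unique_nonDegenerate_dim _ p ⟨_, ha _ _ x'.2⟩ hx q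
    ⟨_, ha _ _ y'.2⟩ (h.trans hy)
  obtain rfl : p = q := V.unique_nonDegenerate_map _ p ⟨_, ha _ _ x'.2⟩ hx q
    ⟨_, ha _ _ y'.2⟩ (h.trans hy)
  have := V.unique_nonDegenerate_simplex _ p ⟨_, ha _ _ x'.2⟩ hx p
    ⟨_, ha _ _ y'.2⟩ (h.trans hy)
  rw [hb m x'.2 y'.2 (congr_arg Subtype.val this)]

lemma surjective_of_nonDegenerate {U V : SSet.{u}} (f : U ⟶ V)
    (hb : ∀ n : ℕ, Set.SurjOn (f.app (op ⦋n⦌)) (U.nonDegenerate n) (V.nonDegenerate n)) (n : ℕ) :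
    Function.Surjective (f.app (op ⦋n⦌)) := by
  intro v
  obtain ⟨m, p, _, v', rfl⟩ := V.exists_nonDegenerate v
  obtain ⟨u', -, hu⟩ := hb m v'.2
  exact ⟨U.map p.op u', by rw [NatTrans.naturality_apply, hu]⟩

lemma exists_sk {m : ℕ} (U : SSet.Truncated.{u} m) {k : SimplexCategoryᵒᵖ}
    (x : ((SSet.Truncated.sk m).obj U).obj k) :
    ∃ (j : (SimplexCategory.Truncated m)ᵒᵖ) (g : op j.unop.obj ⟶ k) (a : U.obj j),
      x = ((SSet.Truncated.sk m).obj U).map g (((SSet.skAdj m).unit.app U).app j a) := by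
  let L := (SimplexCategory.Truncated.inclusion m).op
  have h : IsColimit ((Functor.LeftExtension.mk _ (L.lanUnit.app U)).coconeAt k) :=
    Functor.isPointwiseLeftKanExtensionOfIsLeftKanExtension _ _ k
  obtain ⟨⟨j, ⟨⟩, g⟩, a, ha⟩ := Types.jointly_surjective_of_isColimit h x
  refine ⟨j, g, a, ?_⟩
  rw [← ha]
  simp [L, SSet.skAdj, SimplicialObject.skAdj]
  rfl

lemma hasDimensionLT_sk (m : ℕ) (U : SSet.Truncated.{u} m) :
    ((SSet.Truncated.sk m).obj U).HasDimensionLT (m + 1) where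
  degenerate_eq_top n hn := by
    ext x
    simp only [Set.top_eq_univ, Set.mem_univ, iff_true]
    obtain ⟨⟨⟨⟨j⟩, hj⟩⟩, g, a, rfl⟩ := exists_sk U x
    exact ⟨j, lt_of_le_of_lt hj (Nat.lt_of_succ_le hn), g.unop, ⟨_, rfl⟩⟩

lemma skAdj_unit_counit (U : SSet.{u}) (n : ℕ) (j : (SimplexCategory.Truncated n)ᵒᵖ)
    (a : U.obj (op j.unop.obj)) :
    ((SSet.skAdj n).counit.app U).app (op j.unop.obj)
      (((SSet.skAdj n).unit.app ((SSet.truncation n).obj U)).app j a) = a :=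
  ConcreteCategory.congr_hom (congr_app ((SSet.skAdj n).right_triangle_components U) j) a

lemma exists_sk_nonDegenerate (U : SSet.{u}) (n : ℕ) {k : ℕ}
    (x : ((SSet.Truncated.sk n).obj ((SSet.truncation n).obj U)).obj (op ⦋k⦌)) :
    ∃ (j : ℕ) (hj : j ≤ n) (g : ⦋k⦌ ⟶ ⦋j⦌) (_ : Epi g) (a : U.nonDegenerate j),
      x = ((SSet.Truncated.sk n).obj ((SSet.truncation n).obj U)).map g.op
        (((SSet.skAdj n).unit.app ((SSet.truncation n).obj U)).app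
          (op ⟨⦋j⦌, hj⟩) a.1) := by
  obtain ⟨⟨⟨⟨j⟩, hj⟩⟩, g, a, rfl⟩ := exists_sk _ x
  obtain ⟨g, rfl⟩ : ∃ g' : ⦋k⦌ ⟶ ⦋j⦌, g'.op = g := ⟨g.unop, rfl⟩
  obtain ⟨i, p, ι, rfl, hp, hi⟩ : ∃ (i : ℕ) (p : ⦋k⦌ ⟶ ⦋i⦌) (ι : ⦋i⦌ ⟶ ⦋j⦌),
      g = p ≫ ι ∧ Epi p ∧ i ≤ j :=
    ⟨(image g).len, factorThruImage g, image.ι g, (image.fac g).symm,
      (inferInstance : Epi (factorThruImage g)), SimplexCategory.len_le_of_mono (image.ι g)⟩
  obtain ⟨l, q, hq, c, hc⟩ := U.exists_nonDegenerate (U.map ι.op a)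
  have hl : l ≤ n := (SimplexCategory.len_le_of_epi q).trans (hi.trans hj)
  refine ⟨l, hl, p ≫ q, inferInstance, c, ?_⟩
  let T := (SSet.truncation n).obj U
  let η := (SSet.skAdj n).unit.app T
  let S := (SSet.Truncated.sk n).obj T
  change S.map (p ≫ ι).op _ = S.map (p ≫ q).op _
  rw [op_comp, op_comp, Functor.map_comp, Functor.map_comp, comp_apply, comp_apply]
  congr 1
  have h1 := NatTrans.naturality_apply η
    (ObjectProperty.homMk ι : (⟨⦋_⦌, hi.trans hj⟩ : SimplexCategory.Truncated n) ⟶ ⟨⦋j⦌, hj⟩).op a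
  have h2 := NatTrans.naturality_apply η
    (ObjectProperty.homMk q : (⟨⦋_⦌, hi.trans hj⟩ : SimplexCategory.Truncated n) ⟶ ⟨⦋l⦌, hl⟩).op c.1
  exact h1.symm.trans ((congr_arg _ hc).trans h2)

lemma skAdj_counit (U : SSet.{u}) (n : ℕ) :
    Mono ((SSet.skAdj n).counit.app U) ∧
      SSet.Subcomplex.range ((SSet.skAdj n).counit.app U) = U.skeleton (n + 1) := by
  let ε := (SSet.skAdj n).counit.app U
  have key : ∀ {k j : ℕ} (hj : j ≤ n) (g : ⦋k⦌ ⟶ ⦋j⦌) (a : U.obj (op ⦋j⦌)),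
      ε.app (op ⦋k⦌) (((SSet.Truncated.sk n).obj ((SSet.truncation n).obj U)).map g.op
        (((SSet.skAdj n).unit.app ((SSet.truncation n).obj U)).app (op ⟨⦋j⦌, hj⟩) a)) =
        U.map g.op a := by
    intro k j hj g a
    exact (NatTrans.naturality_apply ε g.op _).trans
      (congr_arg _ (skAdj_unit_counit U n (op ⟨⦋j⦌, hj⟩) a))
  refine ⟨?_, ?_⟩
  · rw [NatTrans.mono_iff_mono_app]
    rintro ⟨⟨k⟩⟩
    rw [mono_iff_injective]
    intro x y h
    obtain ⟨j, hj, g, _, a, rfl⟩ := exists_sk_nonDegenerate U n x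
    obtain ⟨j', hj', g', _, a', rfl⟩ := exists_sk_nonDegenerate U n y
    have h' : U.map g.op a.1 = U.map g'.op a'.1 := by rw [← key, ← key]; exact h
    obtain rfl : j = j' := U.unique_nonDegenerate_dim _ g a rfl g' a' h'
    obtain rfl : g = g' := U.unique_nonDegenerate_map _ g a rfl g' a' h'
    obtain rfl : a = a' := U.unique_nonDegenerate_simplex _ g a rfl g a' h'
    rfl
  · refine le_antisymm ?_ ?_
    · rintro ⟨⟨k⟩⟩ _ ⟨x, rfl⟩
      obtain ⟨⟨⟨⟨j⟩, hj⟩⟩, g, a, rfl⟩ := exists_sk _ x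
      change ε.app _ (((SSet.Truncated.sk n).obj ((SSet.truncation n).obj U)).map g.unop.op _) ∈ _
      rw [key hj g.unop a]
      exact (U.skeleton (n + 1)).map _ (U.mem_skeleton a (Nat.lt_succ_of_le hj))
    · simp only [SSet.skeleton, OrderHom.coe_mk, iSup_le_iff]
      rintro ⟨i, hi⟩ x
      rw [SSet.Subcomplex.ofSimplex_le_iff]
      exact ⟨_, skAdj_unit_counit U n (op ⟨⦋i⦌, Nat.le_of_lt_succ hi⟩) x.1⟩

end Groth.Agent.SSet45
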