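import Groth.Agent.SSet45.SimplicialGroup
import Mathlib.AlgebraicTopology.SimplicialObject.ChainHomotopy
import Mathlib.AlgebraicTopology.DoldKan.HomotopyEquivalence
import Mathlib.Algebra.Category.Grp.Adjunctions

universe u

open CategoryTheory Simplicial Opposite Limits AlgebraicTopology

namespace Groth.Agent.SSet45

local notation "A" => alternatingFaceMapComplex AddCommGrpCat

/-- The simplicial free abelian group on a simplicial set. -/
noncomputable abbrev freeS : SSet.{u} ⥤ SimplicialObject AddCommGrpCat.{u} :=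
  (SimplicialObject.whiskering _ _).obj AddCommGrpCat.free

noncomputable def counitS (X : SimplicialObject AddCommGrpCat.{u}) :
    freeS.obj (X ⋙ forget AddCommGrpCat.{u}) ⟶ X :=
  Functor.whiskerLeft X AddCommGrpCat.adj.counit ≫ X.rightUnitor.hom

lemma counitS_of (X : SimplicialObject AddCommGrpCat.{u}) (n : SimplexCategoryᵒᵖ) (x : X.obj n) :
    (counitS X).app n (FreeAbelianGroup.of x) = x := by
  show (AddCommGrpCat.adj.counit.app (X.obj n)) (FreeAbelianGroup.of x) = x
  exact FreeAbelianGroup.lift_apply_of _ x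

lemma counitS_naturality {X Y : SimplicialObject AddCommGrpCat.{u}} (f : X ⟶ Y) :
    freeS.map (Functor.whiskerRight f (forget AddCommGrpCat.{u})) ≫ counitS Y = counitS X ≫ f := by
  apply NatTrans.ext
  funext n
  exact AddCommGrpCat.adj.counit.naturality (f.app n)

lemma exists_normalized (X : SimplicialObject AddCommGrpCat.{u}) (n : ℕ) (z : X _⦋n⦌)
    (hz : ∀ j, ((A).obj X).d n j z = 0) :
    ∃ z' : X _⦋n⦌, (∀ m (h : n = m + 1) (j : Fin (m + 2)),
        X.δ j (cast (by subst h; rfl) z' : X _⦋m + 1⦌) = 0) ∧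
      ∃ w, ((A).obj X).d (n + 1) n w = z' - z := by
  let P : (A).obj X ⟶ (A).obj X := DoldKan.PInfty
  refine ⟨P.f n z, ?_, ?_⟩
  · rintro m rfl j
    show X.δ j (P.f (m + 1) z) = 0
    obtain rfl | hj := eq_or_ne j 0
    · rw [← d_eq_δ_zero X m _ (δ_succ_PInfty X m z)]
      refine (ConcreteCategory.congr_hom (P.comm (m + 1) m) z).trans ?_
      exact (congr_arg (P.f m) (hz m)).trans (map_zero _)
    · obtain ⟨k, rfl⟩ := Fin.eq_succ_of_ne_zero hj
      exact δ_succ_PInfty X m z k
  · have h := (DoldKan.homotopyPInftyToId X).homologyMap_eq n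
    have h' := ConcreteCategory.congr_hom h (((A).obj X).homologyπ n (zMk n z hz))
    rw [HomologicalComplex.homologyMap_id] at h'
    have h'' : ((A).obj X).homologyπ n (HomologicalComplex.cyclesMap P n (zMk n z hz) -
        zMk n z hz) = 0 := by
      rw [map_sub, sub_eq_zero, ← ConcreteCategory.comp_apply,
        ← HomologicalComplex.homologyπ_naturality]
      exact h'
    obtain ⟨w, hw⟩ := (homologyπ_eq_zero_iff n _).1 h''
    refine ⟨w, hw.trans ?_⟩
    rw [map_sub, ← ConcreteCategory.comp_apply, HomologicalComplex.cyclesMap_i,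
      ConcreteCategory.comp_apply, iCycles_zMk]

lemma faces_of_sub (S : SimplicialObject AddCommGrpCat.{u}) (n : ℕ) (z : S _⦋n⦌)
    (hz : ∀ m (h : n = m + 1) (j : Fin (m + 2)),
      S.δ j (cast (by subst h; rfl) z : S _⦋m + 1⦌) = 0) :
    ∀ m (h : n = m + 1) (j : Fin (m + 2)),
      (freeS.obj (S ⋙ forget AddCommGrpCat.{u})).δ j
        (cast (by subst h; rfl) (FreeAbelianGroup.of z - FreeAbelianGroup.of (0 : S _⦋n⦌) :
          (freeS.obj (S ⋙ forget AddCommGrpCat.{u})) _⦋n⦌)) = 0 := by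
  rintro m rfl j
  show FreeAbelianGroup.map (S.δ j) (FreeAbelianGroup.of z - FreeAbelianGroup.of 0) = 0
  rw [map_sub, FreeAbelianGroup.map_of_apply, FreeAbelianGroup.map_of_apply,
    show S.δ j z = 0 from hz m rfl j, map_zero, sub_self]

lemma d_of_sub (S : SimplicialObject AddCommGrpCat.{u}) (n : ℕ) (w : S _⦋n + 1⦌)
    (hw : ∀ j : Fin (n + 1), S.δ j.succ w = 0) :
    ((A).obj (freeS.obj (S ⋙ forget AddCommGrpCat.{u}))).d (n + 1) n
        (FreeAbelianGroup.of w - FreeAbelianGroup.of (0 : S _⦋n + 1⦌)) =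
      FreeAbelianGroup.of (S.δ 0 w) - FreeAbelianGroup.of (0 : S _⦋n⦌) := by
  rw [d_eq_δ_zero]
  · show FreeAbelianGroup.map (S.δ 0) (FreeAbelianGroup.of w - FreeAbelianGroup.of 0) = _
    rw [map_sub, FreeAbelianGroup.map_of_apply, FreeAbelianGroup.map_of_apply, map_zero]
  · intro j
    show FreeAbelianGroup.map (S.δ j.succ) (FreeAbelianGroup.of w - FreeAbelianGroup.of 0) = 0
    rw [map_sub, FreeAbelianGroup.map_of_apply, FreeAbelianGroup.map_of_apply, hw, map_zero,
      sub_self]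

theorem quasiIso_of_freeS {X Y : SimplicialObject AddCommGrpCat.{u}} (f : X ⟶ Y)
    (hq : QuasiIso ((A).map (freeS.map (Functor.whiskerRight f (forget AddCommGrpCat.{u}))))) :
    QuasiIso ((A).map f) := by
  let φ := (A).map (freeS.map (Functor.whiskerRight f (forget AddCommGrpCat.{u})))
  let εX := (A).map (counitS X)
  let εY := (A).map (counitS Y)
  have hsq : ∀ n z, εY.f n (φ.f n z) = ((A).map f).f n (εX.f n z) := fun n z =>
    ConcreteCategory.congr_hom (congr_app (counitS_naturality f) (op ⦋n⦌)) z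
  have hεX : ∀ n (x : X _⦋n⦌), εX.f n (FreeAbelianGroup.of x -
      FreeAbelianGroup.of (0 : X _⦋n⦌)) = x := fun n x => by
    refine (map_sub ((counitS X).app (op ⦋n⦌)).hom _ _).trans ?_
    exact (congr_arg₂ _ (counitS_of X _ x) (counitS_of X (op ⦋n⦌) 0)).trans (sub_zero x)
  have hεY : ∀ n (y : Y _⦋n⦌), εY.f n (FreeAbelianGroup.of y -
      FreeAbelianGroup.of (0 : Y _⦋n⦌)) = y := fun n x => by
    refine (map_sub ((counitS Y).app (op ⦋n⦌)).hom _ _).trans ?_
    exact (congr_arg₂ _ (counitS_of Y _ x) (counitS_of Y (op ⦋n⦌) 0)).trans (sub_zero x)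
  refine quasiIso_of_elements _ (fun n y hy => ?_) (fun n x hx ⟨w, hw⟩ => ?_)
  · obtain ⟨y', hy', w', hw'⟩ := exists_normalized Y n y hy
    obtain ⟨c, hc, w, hw⟩ := exists_of_quasiIso_surj φ n _
      (isCycle_of_faces _ n _ (faces_of_sub Y n y' hy'))
    refine ⟨εX.f n c, fun j => ?_, εY.f (n + 1) w + w', ?_⟩
    · refine (ConcreteCategory.congr_hom (εX.comm n j) c).trans ?_
      exact (congr_arg (εX.f j) (hc j)).trans (map_zero _)
    · have h1 := ConcreteCategory.congr_hom (εY.comm (n + 1) n) w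
      rw [ConcreteCategory.comp_apply, ConcreteCategory.comp_apply, hw, map_sub, hsq, hεY] at h1
      rw [map_add, h1, hw', sub_add_sub_cancel]
  · obtain ⟨x', hx', v, hv⟩ := exists_normalized X n x hx
    let w₂ : Y _⦋n + 1⦌ := w + ((A).map f).f (n + 1) v
    have hw₂ : ((A).obj Y).d (n + 1) n w₂ = ((A).map f).f n x' := by
      have h1 := ConcreteCategory.congr_hom (((A).map f).comm (n + 1) n) v
      rw [ConcreteCategory.comp_apply, ConcreteCategory.comp_apply, hv, map_sub] at h1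
      show ((A).obj Y).d (n + 1) n (w + _) = _
      rw [map_add, hw, h1, add_sub_cancel]
    have hfx' : (DoldKan.PInfty (X := Y)).f n (((A).map f).f n x') = ((A).map f).f n x' := by
      obtain _ | m := n
      · rw [DoldKan.PInfty_f_0]; rfl
      · refine PInfty_eq_self Y m _ fun j => ?_
        show Y.map _ (f.app _ x') = 0
        rw [← NatTrans.naturality_apply]
        exact (congr_arg _ (hx' m rfl j.succ)).trans (map_zero _)
    let w₃ : Y _⦋n + 1⦌ := (DoldKan.PInfty (X := Y)).f (n + 1) w₂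
    have hw₃ : Y.δ 0 w₃ = f.app _ x' := by
      rw [← d_eq_δ_zero Y n w₃ (δ_succ_PInfty Y n w₂)]
      refine (ConcreteCategory.congr_hom ((DoldKan.PInfty (X := Y)).comm (n + 1) n) w₂).trans ?_
      exact (congr_arg ((DoldKan.PInfty (X := Y)).f n) hw₂).trans hfx'
    obtain ⟨c, hc⟩ := exists_of_quasiIso_inj φ n _
      (isCycle_of_faces _ n _ (faces_of_sub X n x' hx'))
      ⟨FreeAbelianGroup.of w₃ - FreeAbelianGroup.of (0 : Y _⦋n + 1⦌), by
        rw [d_of_sub Y n w₃ (δ_succ_PInfty Y n w₂), hw₃]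
        show _ = FreeAbelianGroup.map (f.app _) (FreeAbelianGroup.of x' - FreeAbelianGroup.of 0)
        rw [map_sub, FreeAbelianGroup.map_of_apply, FreeAbelianGroup.map_of_apply, map_zero]⟩
    refine ⟨εX.f (n + 1) c - v, ?_⟩
    have h1 := ConcreteCategory.congr_hom (εX.comm (n + 1) n) c
    rw [ConcreteCategory.comp_apply, ConcreteCategory.comp_apply, hc, hεX] at h1
    rw [map_sub, h1, hv, sub_sub_cancel]

theorem quasiIso_of_homotopyEquiv {X Y : SimplicialObject AddCommGrpCat.{u}} (f : X ⟶ Y)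
    (g : (Y ⋙ forget AddCommGrpCat.{u} : SSet.{u}) ⟶ (X ⋙ forget AddCommGrpCat.{u} : SSet.{u}))
    (hX : Nonempty (SSet.Homotopy (Functor.whiskerRight f (forget AddCommGrpCat.{u}) ≫ g) (𝟙 _)) ∨
      Nonempty (SSet.Homotopy (𝟙 _) (Functor.whiskerRight f (forget AddCommGrpCat.{u}) ≫ g)))
    (hY : Nonempty (SSet.Homotopy (g ≫ Functor.whiskerRight f (forget AddCommGrpCat.{u})) (𝟙 _)) ∨
      Nonempty (SSet.Homotopy (𝟙 _) (g ≫ Functor.whiskerRight f (forget AddCommGrpCat.{u})))) :
    QuasiIso ((A).map f) := by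
  refine quasiIso_of_freeS f ?_
  have key : ∀ {U V : SSet.{u}} (a : U ⟶ V) (b : V ⟶ U),
      (Nonempty (SSet.Homotopy (a ≫ b) (𝟙 U)) ∨ Nonempty (SSet.Homotopy (𝟙 U) (a ≫ b))) →
      Nonempty (_root_.Homotopy ((A).map (freeS.map a) ≫ (A).map (freeS.map b)) (𝟙 _)) := by
    intro U V a b h
    have e1 : (A).map (freeS.map (a ≫ b)) = (A).map (freeS.map a) ≫ (A).map (freeS.map b) := by
      rw [Functor.map_comp, Functor.map_comp]
    have e2 : (A).map (freeS.map (𝟙 U)) = 𝟙 _ := by
      rw [CategoryTheory.Functor.map_id, CategoryTheory.Functor.map_id]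
    rcases h with ⟨⟨H⟩⟩ | ⟨⟨H⟩⟩
    · exact ⟨(_root_.Homotopy.ofEq e1.symm).trans
        ((H.toSimplicialObjectHomotopy.whiskerRight AddCommGrpCat.free).toChainHomotopy.trans
          (_root_.Homotopy.ofEq e2))⟩
    · exact ⟨(_root_.Homotopy.ofEq e1.symm).trans
        ((H.toSimplicialObjectHomotopy.whiskerRight AddCommGrpCat.free).toChainHomotopy.symm.trans
          (_root_.Homotopy.ofEq e2))⟩
  obtain ⟨h1⟩ := key _ _ hX
  obtain ⟨h2⟩ := key _ _ hY
  exact (HomotopyEquiv.mk _ _ h1 h2).quasiIso_hom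

end Groth.Agent.SSet45
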