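import Mathlib.AlgebraicTopology.SimplicialSet.KanComplex
import Mathlib.Algebra.Category.Grp.Basic
import Mathlib.Algebra.Group.Subgroup.Ker

universe u

open CategoryTheory Simplicial Opposite

namespace Groth.Agent.SSet45

/-- Moore's filler algorithm, in an abstract form. -/
@[to_additive add_filler_aux]
theorem filler_aux {G₀ G₁ G₂ : Type*} [Group G₀] [Group G₁] [Group G₂] {m : ℕ}
    (d : Fin (m + 3) → G₂ →* G₁) (d' : Fin (m + 2) → G₁ →* G₀)
    (s : Fin (m + 2) → G₁ →* G₂) (s' : Fin (m + 1) → G₀ →* G₁)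
    (dd : ∀ i j : Fin (m + 2), i ≤ j → ∀ x, d' i (d j.succ x) = d' j (d i.castSucc x))
    (ds_self : ∀ (i : Fin (m + 2)) (x : G₁), d i.castSucc (s i x) = x)
    (ds_succ : ∀ (i : Fin (m + 2)) (x : G₁), d i.succ (s i x) = x)
    (ds_le : ∀ (i : Fin (m + 2)) (j : Fin (m + 1)), i ≤ j.castSucc → ∀ x,
      d i.castSucc (s j.succ x) = s' j (d' i x))
    (ds_gt : ∀ (i : Fin (m + 2)) (j : Fin (m + 1)), j.castSucc < i → ∀ x,
      d i.succ (s j.castSucc x) = s' j (d' i x))
    (K₁ : Subgroup G₁) (K₂ : Subgroup G₂) (hs : ∀ i, ∀ x ∈ K₁, s i x ∈ K₂)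
    (hd : ∀ i, ∀ x ∈ K₂, d i x ∈ K₁)
    (i : Fin (m + 3)) (x : Fin (m + 3) → G₁)
    (compat : ∀ a b : Fin (m + 2), a ≤ b → a.castSucc ≠ i → b.succ ≠ i →
      d' a (x b.succ) = d' b (x a.castSucc))
    (y₀ : G₂) (hy : ∀ j, j ≠ i → (d j y₀)⁻¹ * x j ∈ K₁) :
    ∃ y, y₀⁻¹ * y ∈ K₂ ∧ ∀ j, j ≠ i → d j y = x j := by
  have hK : ∀ (y : G₂) (r : Fin (m + 3)), y₀⁻¹ * y ∈ K₂ → r ≠ i →
      (d r y)⁻¹ * x r ∈ K₁ := by
    intro y r h hr
    have := mul_mem (inv_mem (hd r _ h)) (hy r hr)
    simpa [mul_assoc] using this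
  have phase1 : ∀ r : ℕ, r ≤ i.val → ∃ y, y₀⁻¹ * y ∈ K₂ ∧
      ∀ j : Fin (m + 3), j.val < r → d j y = x j := by
    intro r
    induction r with
    | zero => exact fun _ => ⟨y₀, by simp, fun j hj => absurd hj (Nat.not_lt_zero _)⟩
    | succ r ih =>
      intro hr
      obtain ⟨y, hyK, hyx⟩ := ih (by omega)
      obtain ⟨a, ha⟩ : ∃ a : Fin (m + 2), a.val = r := ⟨⟨r, by omega⟩, rfl⟩
      have hai : a.castSucc ≠ i := fun h => by
        have := congrArg Fin.val h; simp only [Fin.val_castSucc] at this; omega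
      refine ⟨y * s a ((d a.castSucc y)⁻¹ * x a.castSucc), ?_, fun j hj => ?_⟩
      · rw [← mul_assoc]; exact mul_mem hyK (hs _ _ (hK y _ hyK hai))
      · rw [map_mul]
        rcases Nat.lt_or_ge j.val r with hjr | hjr
        · obtain ⟨c, rfl⟩ : ∃ c : Fin (m + 1), a = c.succ :=
            Fin.eq_succ_of_ne_zero (fun h => by subst h; simp at ha; omega)
          obtain ⟨b, rfl⟩ : ∃ b : Fin (m + 2), b.castSucc = j :=
            ⟨⟨j.val, by omega⟩, rfl⟩
          simp only [Fin.val_castSucc, Fin.val_succ] at hjr ha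
          have hbc : b ≤ c.castSucc := by simp only [Fin.le_def, Fin.val_castSucc]; omega
          have hji : b.castSucc ≠ i := fun h => by
            have := congrArg Fin.val h; simp only [Fin.val_castSucc] at this; omega
          have e : c.succ.castSucc = c.castSucc.succ := (Fin.castSucc_succ c)
          have key : d' b (d c.succ.castSucc y) = d' b (x c.succ.castSucc) := by
            rw [e, dd _ _ hbc, compat _ _ hbc hji (e ▸ hai), hyx _ (by simpa using hjr)]
          rw [ds_le _ _ hbc, map_mul, map_inv, key, inv_mul_cancel, map_one, mul_one,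
            hyx _ (by simpa using hjr)]
        · obtain rfl : j = a.castSucc := by
            ext; simp only [Fin.val_castSucc]; omega
          rw [ds_self, mul_inv_cancel_left]
  have phase2 : ∀ t : ℕ, t ≤ m + 2 - i.val → ∃ y, y₀⁻¹ * y ∈ K₂ ∧
      ∀ j : Fin (m + 3), (j.val < i.val ∨ m + 3 ≤ j.val + t) → d j y = x j := by
    intro t
    induction t with
    | zero =>
      intro _
      obtain ⟨y, h1, h2⟩ := phase1 i.val le_rfl
      exact ⟨y, h1, fun j hj => h2 j (hj.resolve_right (by omega))⟩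
    | succ t ih =>
      intro ht
      obtain ⟨y, hyK, hyx⟩ := ih (by omega)
      obtain ⟨a, ha⟩ : ∃ a : Fin (m + 2), a.val + 1 + t + 1 = m + 3 :=
        ⟨⟨m + 1 - t, by omega⟩, by simp only; omega⟩
      have hai : a.succ ≠ i := fun h => by
        have := congrArg Fin.val h; simp only [Fin.val_succ] at this; omega
      refine ⟨y * s a ((d a.succ y)⁻¹ * x a.succ), ?_, fun j hj => ?_⟩
      · rw [← mul_assoc]; exact mul_mem hyK (hs _ _ (hK y _ hyK hai))
      · rw [map_mul]
        by_cases hja : j = a.succ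
        · subst hja
          rw [ds_succ, mul_inv_cancel_left]
        · have hja' : j.val ≠ a.val + 1 := fun h => hja (Fin.ext (by simpa using h))
          have hcond : j.val < i.val ∨ m + 3 ≤ j.val + t := by omega
          have hji : j ≠ i := fun h => by
            have := congrArg Fin.val h; omega
          rcases Nat.lt_or_ge (a.val + 1) j.val with hlt | hge
          · obtain ⟨b, rfl⟩ : ∃ b : Fin (m + 2), b.succ = j :=
              ⟨⟨j.val - 1, by omega⟩, Fin.ext (by simp only [Fin.val_succ]; omega)⟩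
            simp only [Fin.val_succ] at hlt
            obtain ⟨c, rfl⟩ : ∃ c : Fin (m + 1), c.castSucc = a :=
              ⟨⟨a.val, by omega⟩, rfl⟩
            simp only [Fin.val_castSucc] at hlt
            have hcb : c.castSucc < b := by simp only [Fin.lt_def, Fin.val_castSucc]; omega
            have hcb' : c.succ ≤ b := by simp only [Fin.le_def, Fin.val_succ]; omega
            have e : c.succ.castSucc = c.castSucc.succ := (Fin.castSucc_succ c)
            have key : d' b (d c.castSucc.succ y) = d' b (x c.castSucc.succ) := by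
              rw [← e, ← dd _ _ hcb', ← compat _ _ hcb' (e ▸ hai) hji, hyx _ hcond]
            rw [ds_gt _ _ hcb, map_mul, map_inv, key, inv_mul_cancel, map_one, mul_one,
              hyx _ hcond]
          · have hlt : j.val < i.val := by omega
            obtain ⟨e, rfl⟩ : ∃ e : Fin (m + 2), e.castSucc = j :=
              ⟨⟨j.val, by omega⟩, rfl⟩
            simp only [Fin.val_castSucc] at hlt hja' hge
            obtain ⟨c, rfl⟩ : ∃ c : Fin (m + 1), a = c.succ :=
              Fin.eq_succ_of_ne_zero (fun h => by subst h; simp at ha; omega)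
            simp only [Fin.val_succ] at ha hja' hge
            have hec : e ≤ c.castSucc := by simp only [Fin.le_def, Fin.val_castSucc]; omega
            have hec' : e ≤ c.succ := le_trans hec (Fin.castSucc_le_succ c)
            have key : d' e (d c.succ.succ y) = d' e (x c.succ.succ) := by
              rw [dd _ _ hec', compat _ _ hec' hji hai, hyx _ hcond]
            rw [ds_le _ _ hec, map_mul, map_inv, key, inv_mul_cancel, map_one, mul_one,
              hyx _ hcond]
  obtain ⟨y, h1, h2⟩ := phase2 (m + 2 - i.val) le_rfl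
  exact ⟨y, h1, fun j hj => h2 j (by
    have : j.val ≠ i.val := fun h => hj (Fin.ext h)
    omega)⟩

/-- The case `n = 0` of `filler_aux`. -/
@[to_additive add_filler_aux_zero]
theorem filler_aux_zero {G₁ G₂ : Type*} [Group G₁] [Group G₂]
    (d : Fin 2 → G₂ →* G₁) (s : G₁ →* G₂) (ds : ∀ (j : Fin 2) (x : G₁), d j (s x) = x)
    (K₁ : Subgroup G₁) (K₂ : Subgroup G₂) (hs : ∀ x ∈ K₁, s x ∈ K₂)
    (i : Fin 2) (x : Fin 2 → G₁) (y₀ : G₂) (hy : ∀ j, j ≠ i → (d j y₀)⁻¹ * x j ∈ K₁) :
    ∃ y, y₀⁻¹ * y ∈ K₂ ∧ ∀ j, j ≠ i → d j y = x j := by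
  obtain ⟨k, hk, huniq⟩ : ∃ k, k ≠ i ∧ ∀ j, j ≠ i → j = k := by
    fin_cases i
    · exact ⟨1, by decide, by decide⟩
    · exact ⟨0, by decide, by decide⟩
  refine ⟨y₀ * s ((d k y₀)⁻¹ * x k), by simpa using hs _ (hy k hk), fun j hj => ?_⟩
  rw [huniq j hj, map_mul, ds, mul_inv_cancel_left]

end Groth.Agent.SSet45
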